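import Groth.Agent.Lib.BCInj6.Vanish
import Groth.Agent.Lib.RDer24.EdgeIso
import Groth.Prelude.Def_EtBC2

/-!
# The vanishing criterion and composition
-/

set_option autoImplicit false
set_option linter.style.haveILetI false
set_option linter.unusedSectionVars false
set_option backward.isDefEq.respectTransparency false
set_option backward.isDefEq.respectTransparency.types false

universe u

open CategoryTheory CategoryTheory.Limits AlgebraicGeometry Opposite

namespace Groth.Agent.BCInj6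

open Groth.Agent.EtStalk

variable {X Y Z : Scheme.{u}}

/-- Higher direct images of a composite for a sheaf without higher direct images. -/
theorem nonempty_Rpush_comp (f : X ⟶ Y) (g : Y ⟶ Z) (M : EtCoh.Ab X)
    (h : ∀ q : ℕ, 0 < q → IsZero ((EtCoh.Rpush f q).obj M)) (q : ℕ) :
    Nonempty ((EtCoh.Rpush g q).obj ((EtCoh.push f).obj M) ≅ (EtCoh.Rpush (f ≫ g) q).obj M) :=
  haveI := RDer24.isIso_edgeIn (EtCoh.push f) (EtCoh.push g) q M h
  haveI : IsIso (EtBC.lerayEdgeIn f g q M) := by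
    rw [EtBC.lerayEdgeIn]
    infer_instance
  ⟨asIso (EtBC.lerayEdgeIn f g q M)⟩

/-- The direct image of the inverse image of a sheaf killed by a prime in an injective one. -/
theorem nonempty_push_pull_tor (f : X ⟶ Y) [IsProper f] {X' Y' : Scheme.{u}} (f' : X' ⟶ Y') (g' : X' ⟶ X)
    (g : Y' ⟶ Y) (h : IsPullback g' f' f g) (J : EtCoh.Ab X) (a : ℕ) :
    Nonempty ((EtCoh.push f').obj ((EtCoh.pull g').obj (tor a J)) ≅
      (EtCoh.pull g).obj (tor a ((EtCoh.push f).obj J))) :=
  haveI := ProperPush24.isIso_baseChange0_proper f (tor a J) g f' g' h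
  ⟨(asIso (EtCoh.baseChange0 f g f' g' h.w (tor a J))).symm ≪≫ (EtCoh.pull g).mapIso (pushTorIso f a J)⟩

theorem van_comp {f : X ⟶ Y} {g : Y ⟶ Z} [IsProper f] (hf : Van f) (hg : Van g) : Van (f ≫ g) := by
  intro X' Z' c g' gZ h J hJ ℓ hℓ q hq
  let sq₂ := IsPullback.of_hasPullback g gZ
  obtain ⟨f'', h1, h2⟩ : ∃ f'' : X' ⟶ pullback g gZ, f'' ≫ pullback.snd g gZ = c ∧
      f'' ≫ pullback.fst g gZ = g' ≫ f :=
    ⟨pullback.lift (g' ≫ f) c ((Category.assoc _ _ _).trans h.w), pullback.lift_snd _ _ _, pullback.lift_fst _ _ _⟩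
  subst h1
  have sq₁ : IsPullback g' f'' f (pullback.fst g gZ) := IsPullback.of_bot h h2.symm sq₂
  have hz := fun p hp => hf f'' g' _ sq₁ J hJ ℓ hℓ p hp
  obtain ⟨e⟩ := nonempty_Rpush_comp f'' (pullback.snd g gZ) _ hz q
  obtain ⟨b⟩ := nonempty_push_pull_tor f f'' g' _ sq₁ J ℓ
  haveI : Injective ((EtCoh.push f).obj J) := injective_push f J
  exact ((hg _ _ gZ sq₂ ((EtCoh.push f).obj J) inferInstance ℓ hℓ q hq).of_iso
    ((EtCoh.Rpush _ q).mapIso b)).of_iso e.symm

theorem van_of_comp {f : X ⟶ Y} {g : Y ⟶ Z} [IsProper f] [Surjective f] (hf : Van f) (hgf : Van (f ≫ g)) :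
    Van g := by
  intro Y' Z' g' h' gZ h K hK ℓ hℓ q hq
  let sq := IsPullback.of_hasPullback f h'
  let v : K ⟶ (EtCoh.push f).obj ((EtCoh.pull f).obj K) := (EtCoh.pullPushAdj f).unit.app K
  let J := Injective.under ((EtCoh.pull f).obj K)
  haveI : Mono v := EtBCQ24.mono_unit_surj f f.surjective K
  haveI : Mono ((EtCoh.push f).map (Injective.ι ((EtCoh.pull f).obj K))) :=
    haveI : PreservesLimitsOfSize.{0, 0} (EtCoh.push f) := (EtCoh.pullPushAdj f).rightAdjoint_preservesLimits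
    inferInstance
  let s : K ⟶ (EtCoh.push f).obj J := v ≫ (EtCoh.push f).map (Injective.ι _)
  haveI : Mono s := inferInstanceAs (Mono (v ≫ _))
  obtain ⟨s', r', hsr⟩ := exists_tor_retract s (Injective.factorThru (𝟙 K) s) (Injective.comp_factorThru _ _) ℓ
  refine IsZero.of_retract ((EtCoh.Rpush g' q).map ((EtCoh.pull h').map s'))
    ((EtCoh.Rpush g' q).map ((EtCoh.pull h').map r')) (by
      rw [← Functor.map_comp, ← Functor.map_comp, hsr, CategoryTheory.Functor.map_id, CategoryTheory.Functor.map_id]) ?_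
  let f'' := pullback.snd f h'
  have hz := fun p hp => hf f'' _ h' sq J inferInstance ℓ hℓ p hp
  obtain ⟨e⟩ := nonempty_Rpush_comp f'' g' _ hz q
  obtain ⟨b⟩ := nonempty_push_pull_tor f f'' (pullback.fst f h') h' sq J ℓ
  exact ((hgf (f'' ≫ g') _ gZ (sq.paste_vert h) J inferInstance ℓ hℓ q hq).of_iso e).of_iso
    ((EtCoh.Rpush g' q).mapIso b).symm

end Groth.Agent.BCInj6
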