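import Groth.Agent.Lib.EtLocCoh19.Twist
import Groth.Agent.Lib.LocConst24.Const
import Groth.Agent.Lib.LocAcycBC6.ConstDev
import Groth.Agent.Lib.BCField24.ConstRed
import Groth.Agent.Lib.RFPlus.Acyclic
import Groth.Prelude.Def_EtDepth

/-!
# Depth for finite locally constant sheaves of prime power order
-/

set_option autoImplicit false
set_option linter.style.haveILetI false
set_option linter.unusedSectionVars false
set_option backward.isDefEq.respectTransparency false
set_option backward.isDefEq.respectTransparency.types false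
set_option maxHeartbeats 800000

universe u

open CategoryTheory CategoryTheory.Limits AlgebraicGeometry Opposite
attribute [local instance] HasDerivedCategory.standard

namespace Groth.Agent.BCInj6

open Groth.Agent.EtStalk Groth.Agent.LocConst24

/-- Over a trivializing étale scheme the sheaf is constant. -/
theorem nonempty_iso_const {V : Scheme.{u}} (G : EtCoh.Ab V) {M : Type} [AddCommGroup M]
    (σ : M →+ G.obj.obj (op (EtCoh.top V))) (hσ : BijAt G σ) : Nonempty (G ≅ EtCoh.const V M) := by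
  let a : AddCommGrpCat.of (ULift.{u + 1} M) ⟶ (EtCore.gsec V).obj G :=
    AddCommGrpCat.ofHom (σ.comp AddEquiv.ulift.toAddMonoidHom)
  let k : EtCoh.const V M ⟶ G := ((EtCore.constAdj V).homEquiv _ _).symm a
  have hk : ∀ m, k.hom.app (op (EtCoh.top V)) (constSec V M (EtCoh.top V) m) = σ m := fun m =>
    ConcreteCategory.congr_hom (((EtCore.constAdj V).homEquiv_unit _ _ k).symm.trans
      (((EtCore.constAdj V).homEquiv _ _).apply_symm_apply a)) (ULift.up m)
  haveI : IsIso k := by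
    rw [isIso_iff_stalk]
    intro Ω _ _ ξ
    let x : fib ξ (EtCoh.top V) := Over.homMk ξ (Category.comp_id _)
    have h1 := bijAt_constSec V M (EtCoh.top V) Ω ξ x
    have h2 := hσ Ω ξ x
    have e : (EtCoh.stalk ξ).map k ∘ (fun m => germ ξ (EtCoh.const V M) x (constSec V M (EtCoh.top V) m)) =
        fun m => germ ξ G x (σ m) := funext fun m =>
      (germ_nat ξ k x _).trans (congrArg (germ ξ G x) (hk m))
    exact (h1.of_comp_iff _).1 (e ▸ h2)
  exact ⟨(asIso k).symm⟩

/-- The inverse image to a trivializing étale scheme. -/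
theorem nonempty_restr_iso_const {X : Scheme.{u}} (F : EtCoh.Ab X) (U : X.Etale) {M : Type} [AddCommGroup M]
    (σ : M →+ F.obj.obj (op U)) (hσ : BijAt F σ) :
    Nonempty ((EtCoh.pull U.hom).obj F ≅ EtCoh.const U.left M) := by
  let t : EtCoh.top U.left ⟶ (EtCoh.bc U.hom).obj U :=
    MorphismProperty.Over.homMk (pullback.lift (𝟙 U.left) (𝟙 U.left) rfl) (pullback.lift_snd _ _ _)
  let σ' : M →+ ((EtCoh.pull U.hom).obj F).obj.obj (op ((EtCoh.bc U.hom).obj U)) :=
    (((EtCoh.pullPushAdj U.hom).unit.app F).hom.app (op U)).hom.comp σ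
  have hσ' : BijAt ((EtCoh.pull U.hom).obj F) σ' := by
    intro Ω _ _ ξ z
    have hz : liftFib U.hom ξ (dropFib U.hom ξ z) = z :=
      Over.OverMorphism.ext (pullback.hom_ext (pullback.lift_fst _ _ _)
        ((pullback.lift_snd _ _ _).trans (Over.w z).symm))
    have h2 := (ConcreteCategory.bijective_of_isIso (stalkPull U.hom ξ F)).comp
      (hσ Ω (ξ ≫ U.hom) (dropFib U.hom ξ z))
    convert h2 using 1
    funext m
    refine Eq.trans ?_ (germ_stalkPull U.hom ξ F (dropFib U.hom ξ z) (σ m)).symm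
    rw [hz]
    rfl
  exact nonempty_iso_const _ (resSec t σ') (hσ'.res t)

theorem exists_pow_nsmul {X : Scheme.{u}} {ℓ : ℕ} {F : EtCoh.Ab X} (hF : EtDepth.IsLTorsion ℓ F) {U : X.Etale}
    {M : Type} [AddCommGroup M] (σ : M →+ F.obj.obj (op U)) (hσ : BijAt F σ) (u₀ : U.left) (m : M) :
    ∃ k : ℕ, ℓ ^ k • m = 0 := by
  obtain ⟨V, g, ⟨v, -⟩, k, hk⟩ := hF U (σ m) u₀
  obtain ⟨Ω, _, _, ξ, x, -⟩ := EtStalk.exists_algFib V v
  haveI : IsSepClosed Ω := inferInstance
  refine ⟨k, (hσ Ω ξ ((Scheme.pointSmallEtale ξ).fiber.map g x)).1 ?_⟩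
  show germ ξ F _ (σ (ℓ ^ k • m)) = germ ξ F _ (σ 0)
  rw [← germ_map ξ F g x, ← germ_map ξ F g x, map_nsmul, map_nsmul, hk, map_zero, map_zero, map_zero, map_zero]

variable {V W : Scheme.{u}} (j : W ⟶ V) (ℓ p : ℕ)

/-- Local cohomology of constant sheaves. -/
noncomputable abbrev locConst : AddCommGrpCat.{u + 1} ⥤ EtCoh.Ab V :=
  LocAcyc24.cs V ⋙ EtDual.locCoh j p

theorem isZero_locConst_mid {S : ShortComplex AddCommGrpCat.{u + 1}} (hS : S.ShortExact)
    (h₁ : IsZero ((locConst j p).obj S.X₁)) (h₃ : IsZero ((locConst j p).obj S.X₃)) :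
    IsZero ((locConst j p).obj S.X₂) := by
  haveI := LocAcycBC6.preservesFiniteLimits_cs V
  haveI := LocAcycBC6.preservesFiniteColimits_cs V
  exact RFPlus.isZero_rightDerived_X₂ (EtDual.secSupp j) _ (hS.map_of_exact (LocAcyc24.cs V)) p h₁ h₃

theorem isZero_locConst_pow (hℓ : ℓ ≠ 0)
    (h : IsZero ((locConst j p).obj (AddCommGrpCat.of (ULift.{u + 1} (ZMod ℓ))))) :
    ∀ ν : ℕ, IsZero ((locConst j p).obj (AddCommGrpCat.of (ULift.{u + 1} (ZMod (ℓ ^ ν))))) := by
  haveI := LocAcycBC6.preservesFiniteLimits_cs V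
  haveI : (LocAcyc24.cs V).Additive := Functor.additive_of_preserves_binary_products _
  haveI : (EtDual.locCoh j p).Additive := inferInstanceAs ((EtDual.secSupp j).rightDerived p).Additive
  haveI : (locConst j p).Additive := inferInstanceAs (LocAcyc24.cs V ⋙ EtDual.locCoh j p).Additive
  intro ν
  induction ν with
  | zero =>
    haveI : Subsingleton (ZMod (ℓ ^ 0)) := by rw [pow_zero]; infer_instance
    exact (locConst j p).map_isZero (AddCommGrpCat.isZero_of_subsingleton _)
  | succ ν ih =>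
    let A (n : ℕ) := AddCommGrpCat.of (ULift.{u + 1} (ZMod n))
    let i : A (ℓ ^ ν) ⟶ A (ℓ ^ (ν + 1)) := AddCommGrpCat.ofHom
      (AddEquiv.ulift.symm.toAddMonoidHom.comp ((LocAcycBC6.mulHom ℓ ν).comp AddEquiv.ulift.toAddMonoidHom))
    let π : ZMod (ℓ ^ (ν + 1)) →+* ZMod ℓ := ZMod.castHom (dvd_pow_self ℓ ν.succ_ne_zero) (ZMod ℓ)
    let r : A (ℓ ^ (ν + 1)) ⟶ A ℓ := AddCommGrpCat.ofHom
      (AddEquiv.ulift.symm.toAddMonoidHom.comp (π.toAddMonoidHom.comp AddEquiv.ulift.toAddMonoidHom))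
    have hinj : ∀ z : ZMod (ℓ ^ ν), LocAcycBC6.mulHom ℓ ν z = 0 → z = 0 := fun z hz => by
      obtain ⟨k, rfl⟩ := ZMod.intCast_surjective z
      rw [LocAcycBC6.mulHom_intCast, ZMod.intCast_zmod_eq_zero_iff_dvd] at hz
      rw [ZMod.intCast_zmod_eq_zero_iff_dvd]
      rw [pow_succ, Nat.cast_mul] at hz
      exact (mul_dvd_mul_iff_right (by exact_mod_cast hℓ)).1 hz
    have hex : ∀ z : ZMod (ℓ ^ (ν + 1)), π z = 0 → ∃ y, LocAcycBC6.mulHom ℓ ν y = z := fun z hz => by
      obtain ⟨k, rfl⟩ := ZMod.intCast_surjective z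
      rw [map_intCast, ZMod.intCast_zmod_eq_zero_iff_dvd] at hz
      obtain ⟨d, rfl⟩ := hz
      exact ⟨(d : ZMod (ℓ ^ ν)), by rw [LocAcycBC6.mulHom_intCast, mul_comm]⟩
    have hw : i ≫ r = 0 := by
      ext z
      obtain ⟨k, hk⟩ := ZMod.intCast_surjective z.down
      show π (LocAcycBC6.mulHom ℓ ν z.down) = 0
      rw [← hk, LocAcycBC6.mulHom_intCast, map_intCast, Int.cast_mul, Int.cast_natCast, ZMod.natCast_self, mul_zero]
    let S := ShortComplex.mk i r hw
    have hS : S.ShortExact :=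
      { exact := by
          rw [ShortComplex.ab_exact_iff]
          intro z hz
          obtain ⟨y, hy⟩ := hex z.down (congrArg ULift.down hz)
          exact ⟨⟨y⟩, congrArg ULift.up hy⟩
        mono_f := by
          rw [AddCommGrpCat.mono_iff_injective, injective_iff_map_eq_zero]
          intro z hz
          exact congrArg ULift.up (hinj z.down (congrArg ULift.down hz))
        epi_g := by
          rw [AddCommGrpCat.epi_iff_surjective]
          intro z
          obtain ⟨y, hy⟩ := ZMod.ringHom_surjective π z.down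
          exact ⟨⟨y⟩, congrArg ULift.up hy⟩ }
    exact isZero_locConst_mid j p hS ih h

theorem isZero_locConst_primary (hℓ : ℓ.Prime) {M : Type} [AddCommGroup M] [Finite M]
    (hM : ∀ m : M, ∃ k, ℓ ^ k • m = 0)
    (h : IsZero ((locConst j p).obj (AddCommGrpCat.of (ULift.{u + 1} (ZMod ℓ))))) :
    IsZero ((locConst j p).obj (AddCommGrpCat.of (ULift.{u + 1} M))) := by
  haveI := LocAcycBC6.preservesFiniteLimits_cs V
  haveI : (LocAcyc24.cs V).Additive := Functor.additive_of_preserves_binary_products _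
  haveI : (EtDual.locCoh j p).Additive := inferInstanceAs ((EtDual.secSupp j).rightDerived p).Additive
  haveI : (locConst j p).Additive := inferInstanceAs (LocAcyc24.cs V ⋙ EtDual.locCoh j p).Additive
  haveI : Finite (AddCommGrpCat.of (ULift.{u + 1} M)) := inferInstanceAs (Finite (ULift.{u + 1} M))
  refine BCField24.isZero_of_finite (locConst j p) _ fun n hn ⟨a, ha⟩ => ?_
  obtain ⟨k, hk⟩ := hM a.down
  obtain ⟨i, -, hi⟩ := (Nat.dvd_prime_pow hℓ).1
    (show n ∣ ℓ ^ k by rw [← ha]; exact addOrderOf_dvd_of_nsmul_eq_zero (ULift.ext _ _ hk))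
  subst hi
  exact isZero_locConst_pow j ℓ p hℓ.ne_zero h i

/-- Depth passes to finite locally constant sheaves of `ℓ`-power order. -/
theorem depthGE_of_flc {X U : Scheme.{u}} (j : U ⟶ X) [IsOpenImmersion j] (hℓ : ℓ.Prime) (n : ℕ)
    (hX : EtDepth.DepthGE j (EtCoh.const X (ZMod ℓ)) n) (F : EtCoh.Ab X) (hFlc : EtCoh.IsFiniteLocallyConstant F)
    (hFt : EtDepth.IsLTorsion ℓ F) : EtDepth.DepthGE j F n := by
  intro q hq
  refine EtLocCoh19.isZero_of_cover _ fun x => ?_
  obtain ⟨V, v, hv, M, _, _, σ, hσ⟩ := loc_of_flc hFlc x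
  haveI : AlgebraicGeometry.Etale V.hom := V.prop
  refine ⟨V.left, V.hom, inferInstance, ⟨v, hv⟩, ?_⟩
  have sq : IsPullback (pullback.fst j V.hom) (pullback.snd j V.hom) j V.hom := IsPullback.of_hasPullback _ _
  haveI : AlgebraicGeometry.Etale (pullback.fst j V.hom) := inferInstance
  obtain ⟨e₁⟩ := EtLocCoh19.nonempty_locCoh_restr V.hom sq q F
  obtain ⟨e₂⟩ := EtLocCoh19.nonempty_locCoh_restr V.hom sq q (EtCoh.const X (ZMod ℓ))
  obtain ⟨e₃⟩ := nonempty_restr_iso_const F V σ hσ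
  have h0 : IsZero ((EtDual.locCoh (pullback.snd j V.hom) q).obj (EtCoh.const V.left (ZMod ℓ))) :=
    ((EtShriek.restrAlong V.hom).map_isZero (hX q hq)).of_iso
      ((EtDual.locCoh (pullback.snd j V.hom) q).mapIso (EtLocCoh19.restrConst V.hom (ZMod ℓ)).symm ≪≫ e₂.symm)
  exact (isZero_locConst_primary (pullback.snd j V.hom) ℓ q hℓ (fun m => exists_pow_nsmul hFt σ hσ v m) h0).of_iso
    (e₁ ≪≫ (EtDual.locCoh (pullback.snd j V.hom) q).mapIso ((restrPullIso V.hom).app F ≪≫ e₃))

end Groth.Agent.BCInj6
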