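import Groth.Agent.Lib.BCInj6.DepthRestr
import Groth.Agent.Lib.StalkCrit24.Fibres

/-!
# Depth along a smaller closed subset
-/

set_option autoImplicit false
set_option linter.style.haveILetI false
set_option linter.unusedSectionVars false
set_option backward.isDefEq.respectTransparency false
set_option backward.isDefEq.respectTransparency.types false
set_option maxHeartbeats 800000

universe u

open CategoryTheory CategoryTheory.Limits AlgebraicGeometry Opposite CategoryTheory.Abelian

namespace Groth.Agent.BCInj6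

open Groth.Agent.EtStalk

theorem injective_Hpull_iff_of_iso {A B : Scheme.{u}} (m : A ⟶ B) [PreservesFiniteLimits (EtCoh.pull m)]
    {G G' : EtCoh.Ab B} (φ : G ≅ G') (q : ℕ) :
    Function.Injective (EtCore.Hpull m G q) ↔ Function.Injective (EtCore.Hpull m G' q) := by
  have h : (fun z => z.comp (Ext.mk₀ ((EtCoh.pull m).mapIso φ).hom) (add_zero q)) ∘ EtCore.Hpull m G q =
      EtCore.Hpull m G' q ∘ fun z => z.comp (Ext.mk₀ φ.hom) (add_zero q) :=
    funext fun x => LocAcyc24.Hpull_nat m φ.hom q x
  rw [← Function.Injective.of_comp_iff (EtAcyc24.bijective_comp_iso ((EtCoh.pull m).mapIso φ) q).1, h]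
  exact Function.Injective.of_comp_iff' _ (EtAcyc24.bijective_comp_iso φ q)

theorem Hpull_of_eq {A B : Scheme.{u}} {f f' : A ⟶ B} (e : f = f') [PreservesFiniteLimits (EtCoh.pull f)]
    [PreservesFiniteLimits (EtCoh.pull f')] (G : EtCoh.Ab B) (q : ℕ) :
    (Function.Injective (EtCore.Hpull f G q) ↔ Function.Injective (EtCore.Hpull f' G q)) ∧
      (Function.Surjective (EtCore.Hpull f G q) ↔ Function.Surjective (EtCore.Hpull f' G q)) := by
  subst e
  exact ⟨Iff.rfl, Iff.rfl⟩

/-- Depth is monotone in the closed subset. -/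
theorem depthGE_mono {X U V : Scheme.{u}} (j : U ⟶ X) [IsOpenImmersion j] [EtCoh.BCCont j] (k : V ⟶ X)
    [IsOpenImmersion k] [EtCoh.BCCont k] (hUV : Set.range j.base ⊆ Set.range k.base) (F : EtCoh.Ab X) (n : ℕ)
    (h : EtDepth.DepthGE j F n) : EtDepth.DepthGE k F n := by
  rw [depthGE_iff_restr] at h ⊢
  intro X' g _ _
  haveI : IsOpenImmersion (pullback.snd k g) := inferInstance
  haveI : AlgebraicGeometry.Etale (pullback.snd k g ≫ g) := inferInstance
  let p2 := pullback.snd k g
  let pr := pullback.snd j (p2 ≫ g)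
  let s := pullback.snd j g
  let i : pullback j (p2 ≫ g) ⟶ pullback j g :=
    pullback.lift (pullback.fst j (p2 ≫ g)) (pr ≫ p2) (by rw [Category.assoc]; exact pullback.condition)
  have hi : i ≫ s = pr ≫ p2 := pullback.lift_snd _ _ _
  haveI : IsOpenImmersion pr := inferInstance
  haveI : IsOpenImmersion (i ≫ s) := by rw [hi]; infer_instance
  haveI : IsOpenImmersion i := IsOpenImmersion.of_comp i s
  haveI : IsIso i := by
    haveI : Epi i.base := by
      rw [TopCat.epi_iff_surjective]
      intro x
      have hx : g.base (s.base x) ∈ Set.range k.base := hUV ⟨(pullback.fst j g).base x, by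
        rw [← Scheme.Hom.comp_apply, ← Scheme.Hom.comp_apply, pullback.condition]⟩
      obtain ⟨v, hv⟩ := hx
      obtain ⟨y, -, hy⟩ := Scheme.Pullback.exists_preimage_pullback (f := k) (g := g) v (s.base x) hv
      obtain ⟨z, -, hz⟩ := Scheme.Pullback.exists_preimage_pullback (f := j) (g := p2 ≫ g)
        ((pullback.fst j g).base x) y (by
          rw [Scheme.Hom.comp_apply, hy, ← Scheme.Hom.comp_apply, ← Scheme.Hom.comp_apply, pullback.condition])
      refine ⟨z, s.isOpenEmbedding.injective ?_⟩
      show s.base (i.base z) = s.base x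
      rw [← Scheme.Hom.comp_apply, hi, Scheme.Hom.comp_apply, hz, hy]
    exact IsOpenImmersion.isIso i
  haveI : PreservesFiniteLimits (EtCoh.pull pr) := preservesFiniteLimits_pull pr
  haveI : PreservesFiniteLimits (EtCoh.pull s) := preservesFiniteLimits_pull s
  haveI : PreservesFiniteLimits (EtCoh.pull i) := preservesFiniteLimits_pull i
  haveI : PreservesFiniteLimits (EtCoh.pull (pr ≫ p2)) := preservesFiniteLimits_pull _
  haveI : PreservesFiniteLimits (EtCoh.pull (i ≫ s)) := preservesFiniteLimits_pull _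
  let G := (EtCoh.pull g).obj F
  obtain ⟨hb, hinj⟩ := h X' g
  obtain ⟨hb', hinj'⟩ := h _ (p2 ≫ g)
  have inj_s : ∀ p, p < n → Function.Injective (EtCore.Hpull s G p) := fun p hp =>
    (lt_or_eq_of_le (Nat.succ_le_of_lt hp)).elim (fun h => (hb p h).1) (hinj p)
  have inj_pr : ∀ p, p < n → Function.Injective (EtCore.Hpull pr ((EtCoh.pull p2).obj G) p) := fun p hp =>
    (injective_Hpull_iff_of_iso pr ((EtCore.pullComp p2 g).app F) p).1
      ((lt_or_eq_of_le (Nat.succ_le_of_lt hp)).elim (fun h => (hb' p h).1) (hinj' p))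
  have inj_comp : ∀ p, p < n → Function.Injective (EtCore.Hpull (pr ≫ p2) G p) := fun p hp => by
    have hc : Function.Injective (EtCore.Hpull (i ≫ s) G p) := by
      rw [EtAcyc24.Hpull_comp_eq]
      exact ((EtAcyc24.bijective_comp_iso _ p).1.comp
        ((LocAcyc24.bijective_Hpull_of_isIso i _ p).1.comp (inj_s p hp)))
    exact (Hpull_of_eq hi G p).1.1 hc
  have inj_p2 : ∀ p, p < n → Function.Injective (EtCore.Hpull p2 G p) := fun p hp => by
    have hc := inj_comp p hp
    rw [EtAcyc24.Hpull_comp_eq] at hc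
    exact (hc.of_comp).of_comp
  refine ⟨fun p hp => ⟨inj_p2 p (by omega), ?_⟩, fun p hp => inj_p2 p (by omega)⟩
  have hs : Function.Surjective (EtCore.Hpull (i ≫ s) G p) := by
    rw [EtAcyc24.Hpull_comp_eq]
    exact ((EtAcyc24.bijective_comp_iso _ p).2.comp
      ((LocAcyc24.bijective_Hpull_of_isIso i _ p).2.comp (hb p hp).2))
  have hs' : Function.Surjective (EtCore.Hpull (pr ≫ p2) G p) := (Hpull_of_eq hi G p).2.1 hs
  rw [EtAcyc24.Hpull_comp_eq] at hs'
  exact (hs'.of_comp_left ((EtAcyc24.bijective_comp_iso _ p).1)).of_comp_left (inj_pr p (by omega))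

end Groth.Agent.BCInj6
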