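import Groth.Agent.Lib.EtLocCoh19.Global
import Groth.Agent.Lib.EtStalk.ExtSheaf
import Groth.Agent.Lib.StrictLim24.Section
import Groth.Agent.Lib.ExtDerived.Natural
import Groth.Prelude.Def_EtDepth

/-!
# Depth and restriction of cohomology
-/

set_option autoImplicit false
set_option linter.style.haveILetI false
set_option linter.unusedSectionVars false
set_option backward.isDefEq.respectTransparency false
set_option backward.isDefEq.respectTransparency.types false
set_option maxHeartbeats 800000

universe u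

open CategoryTheory CategoryTheory.Limits AlgebraicGeometry Opposite CategoryTheory.Abelian

namespace Groth.Agent.BCInj6

open Groth.Agent.EtStalk

section OneScheme

variable {X U : Scheme.{u}} (j : U ⟶ X) [IsOpenImmersion j]

instance mono_zExtCounit : Mono (zExtCounit j) := by
  rw [mono_iff_stalk]
  intro Ω _ _ ξ
  by_cases h : ξ (default : Spec (CommRingCat.of Ω)) ∈ Set.range j
  · exact (bijective_stalk_zExtCounit j ξ h).1
  · haveI := subsingleton_stalk_zExt j ξ h
    exact fun a b _ => Subsingleton.elim a b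

/-- The quotient of the constant sheaf by its extension by zero. -/
noncomputable abbrev zQuot : EtCoh.Ab X := cokernel (zExtCounit j)

theorem zExtCounit_comp_eq_zero_iff {G : EtCoh.Ab X} (f : EtCoh.const X ℤ ⟶ G) :
    zExtCounit j ≫ f = 0 ↔ f ≫ EtDual.unitApp j G = 0 := by
  let p := EtCoh.pullPushAdj j
  haveI : (EtCoh.pull j).Additive := inferInstance
  haveI : (EtCoh.push j).Additive := p.right_adjoint_additive
  have h1 : (EtCore.pullConst j ℤ).inv ≫ (EtCoh.pull j).map f = 0 ↔ zExtCounit j ≫ f = 0 := by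
    rw [zExtCounit, ← Adjunction.homEquiv_naturality_right_symm, ← ((shriekPullAdj j).homAddEquiv _ _).symm.map_eq_zero_iff]
    exact Iff.rfl
  have h2 : (EtCoh.pull j).map f = 0 ↔ f ≫ EtDual.unitApp j G = 0 := by
    have e : f ≫ EtDual.unitApp j G = p.homEquiv _ _ ((EtCoh.pull j).map f) := by
      rw [Adjunction.homEquiv_unit]
      exact p.unit.naturality f
    rw [e, ← (p.homAddEquiv _ _).map_eq_zero_iff]
    exact Iff.rfl
  rw [← h1, ← h2]
  exact ⟨fun h => (cancel_epi (EtCore.pullConst j ℤ).inv).1 (h.trans comp_zero.symm),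
    fun h => by rw [h, comp_zero]⟩

/-- Maps out of the quotient are maps into the sections with supports. -/
noncomputable def zQuotEquiv (G : EtCoh.Ab X) :
    (zQuot j ⟶ G) ≃+ (EtCoh.const X ℤ ⟶ (EtDual.secSupp j).obj G) where
  toFun q := kernel.lift (EtDual.unitApp j G) (cokernel.π (zExtCounit j) ≫ q)
    ((zExtCounit_comp_eq_zero_iff j _).1 (by rw [cokernel.condition_assoc, zero_comp]))
  invFun z := cokernel.desc (zExtCounit j) (z ≫ kernel.ι (EtDual.unitApp j G))
    ((zExtCounit_comp_eq_zero_iff j _).2 (by rw [Category.assoc, kernel.condition, comp_zero]))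
  left_inv q := (cancel_epi (cokernel.π (zExtCounit j))).1
    ((cokernel.π_desc _ _ _).trans (kernel.lift_ι _ _ _))
  right_inv z := (cancel_mono (kernel.ι (EtDual.unitApp j G))).1
    ((kernel.lift_ι _ _ _).trans (cokernel.π_desc _ _ _))
  map_add' q q' := (cancel_mono (kernel.ι (EtDual.unitApp j G))).1
    ((kernel.lift_ι _ _ _).trans ((Preadditive.comp_add _ _ _ _ _ _).trans
      ((congrArg₂ (· + ·) (kernel.lift_ι _ _ _) (kernel.lift_ι _ _ _)).symm.trans
        (Preadditive.add_comp _ _ _ _ _ _).symm)))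

theorem zQuotEquiv_ι {G : EtCoh.Ab X} (q : zQuot j ⟶ G) :
    zQuotEquiv j G q ≫ kernel.ι (EtDual.unitApp j G) = cokernel.π (zExtCounit j) ≫ q :=
  kernel.lift_ι _ _ _

theorem zQuotEquiv_nat {G G' : EtCoh.Ab X} (a : G ⟶ G') (q : zQuot j ⟶ G) :
    zQuotEquiv j G' (q ≫ a) = zQuotEquiv j G q ≫ (EtDual.secSupp j).map a := by
  have h : (EtDual.secSupp j).map a ≫ kernel.ι (EtDual.unitApp j G') = kernel.ι (EtDual.unitApp j G) ≫ a :=
    kernel.lift_ι _ _ _
  apply (cancel_mono (kernel.ι (EtDual.unitApp j G'))).1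
  rw [zQuotEquiv_ι, Category.assoc, h, ← Category.assoc, ← Category.assoc, zQuotEquiv_ι]

/-- Natural form. -/
noncomputable def zQuotSecIso :
    preadditiveCoyoneda.obj (op (zQuot j)) ≅ EtDual.secSupp j ⋙ preadditiveCoyoneda.obj (op (EtCoh.const X ℤ)) :=
  NatIso.ofComponents
    (fun G => AddEquiv.toAddCommGrpIso (X := (preadditiveCoyoneda.obj (op (zQuot j))).obj G)
      (Y := (EtDual.secSupp j ⋙ preadditiveCoyoneda.obj (op (EtCoh.const X ℤ))).obj G) (zQuotEquiv j G))
    (fun {G G'} a => AddCommGrpCat.ext fun q => zQuotEquiv_nat j a q)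

/-- Maps out of the quotient are sections with supports. -/
noncomputable def zQuotHomIso :
    preadditiveCoyoneda.obj (op (zQuot j)) ≅ EtDual.gammaSupp j :=
  zQuotSecIso j ≪≫ Functor.isoWhiskerLeft (EtDual.secSupp j) (StrictLim24.topSecIso X)

/-- Ext groups out of the quotient are local cohomology groups. -/
noncomputable def zQuotExtIso (F : EtCoh.Ab X) (p : ℕ) :
    AddCommGrpCat.of (Ext (zQuot j) F p) ≅ (EtDual.HY j p).obj F :=
  (ExtDerived.rightDerivedCoyonedaIso (zQuot j) p F).symm ≪≫
    { hom := (NatTrans.rightDerived (zQuotHomIso j).hom p).app F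
      inv := (NatTrans.rightDerived (zQuotHomIso j).inv p).app F
      hom_inv_id := by rw [← NatTrans.comp_app, ← NatTrans.rightDerived_comp, Iso.hom_inv_id, NatTrans.rightDerived_id, NatTrans.id_app]
      inv_hom_id := by rw [← NatTrans.comp_app, ← NatTrans.rightDerived_comp, Iso.inv_hom_id, NatTrans.rightDerived_id, NatTrans.id_app]; rfl }

theorem zQuot_shortExact : (ShortComplex.mk (zExtCounit j) (cokernel.π (zExtCounit j)) (cokernel.condition _)).ShortExact :=
  { exact := ShortComplex.exact_of_g_is_cokernel _ (cokernelIsCokernel _) }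

/-- Restriction is bijective below `n - 1` and injective at `n - 1` iff the groups with supports vanish below `n`. -/
theorem subsingleton_ext_zQuot_iff [PreservesFiniteLimits (EtCoh.pull j)] (F : EtCoh.Ab X) (n : ℕ) :
    (∀ p, p < n → Subsingleton (Ext (zQuot j) F p)) ↔
      (∀ p : ℕ, p + 1 < n → Function.Bijective (EtCore.Hpull j F p)) ∧
        (∀ p : ℕ, p + 1 = n → Function.Injective (EtCore.Hpull j F p)) := by
  have hS := zQuot_shortExact j
  have hH : ∀ p (x : EtCoh.H X F p),
      EtCore.Hpull j F p x = extCohEquiv j F p ((Ext.mk₀ (zExtCounit j)).comp x (zero_add p)) :=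
    fun p x => (extCohEquiv_counit j F p x).symm
  have hinj : ∀ p, Function.Injective (EtCore.Hpull j F p) ↔
      ∀ x : Ext (EtCoh.const X ℤ) F p, (Ext.mk₀ (zExtCounit j)).comp x (zero_add p) = 0 → x = 0 := fun p => by
    rw [injective_iff_map_eq_zero]
    simp only [hH, AddEquiv.map_eq_zero_iff]
  have hinj' : ∀ p, p < n → (∀ q, q < n → Subsingleton (Ext (zQuot j) F q)) →
      Function.Injective (EtCore.Hpull j F p) := fun p hp h => (hinj p).2 fun x hx => by
    obtain ⟨y, rfl⟩ := Ext.contravariant_sequence_exact₂ hS F x hx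
    haveI := h p hp
    rw [Subsingleton.elim y 0, Ext.comp_zero]
  constructor
  · intro h
    refine ⟨fun p hp => ⟨hinj' p (by omega) h, fun z => ?_⟩, fun p hp => hinj' p (by omega) h⟩
    haveI := h (p + 1) hp
    obtain ⟨x, hx⟩ := Ext.contravariant_sequence_exact₁ hS F ((extCohEquiv j F p).symm z) (add_comm 1 p)
      (Subsingleton.elim _ _)
    exact ⟨x, by rw [hH]; exact (congrArg (extCohEquiv j F p) hx).trans ((extCohEquiv j F p).apply_symm_apply z)⟩
  · rintro ⟨hb, hi⟩ p hp
    have hinjp : Function.Injective (EtCore.Hpull j F p) :=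
      (lt_or_eq_of_le (Nat.succ_le_of_lt hp)).elim (fun h => (hb p h).1) (hi p)
    refine subsingleton_iff_forall_eq 0 |>.2 fun y => ?_
    have h0 : (Ext.mk₀ (cokernel.π (zExtCounit j))).comp y (zero_add p) = 0 :=
      (hinj p).1 hinjp _ (by rw [← Ext.comp_assoc_of_second_deg_zero, Ext.mk₀_comp_mk₀, cokernel.condition, Ext.mk₀_zero, Ext.zero_comp])
    cases p with
    | zero =>
      rw [← Ext.mk₀_homEquiv₀_apply y, Ext.mk₀_comp_mk₀, Ext.mk₀_eq_zero_iff] at h0
      rw [← Ext.mk₀_homEquiv₀_apply y, Ext.mk₀_eq_zero_iff]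
      exact (cancel_epi (cokernel.π (zExtCounit j))).1 (h0.trans comp_zero.symm)
    | succ p =>
      obtain ⟨z, rfl⟩ := Ext.contravariant_sequence_exact₃ hS F y h0 (add_comm 1 p)
      obtain ⟨x, hx⟩ := (hb p hp).2 (extCohEquiv j F p z)
      rw [hH] at hx
      rw [← (extCohEquiv j F p).injective hx, ← Ext.comp_assoc_of_second_deg_zero]
      have hz := hS.extClass_comp
      rw [show hS.extClass.comp (Ext.mk₀ (zExtCounit j)) (add_zero 1) = 0 from hz, Ext.zero_comp]

end OneScheme

variable {X U : Scheme.{u}} (j : U ⟶ X) [IsOpenImmersion j]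

/-- Depth and restriction. -/
theorem depthGE_iff_restr [EtCoh.BCCont j] (F : EtCoh.Ab X) (n : ℕ) :
    EtDepth.DepthGE j F n ↔ ∀ (X' : Scheme.{u}) (g : X' ⟶ X) [AlgebraicGeometry.Etale g]
      [PreservesFiniteLimits (EtCoh.pull (pullback.snd j g))],
      (∀ p : ℕ, p + 1 < n → Function.Bijective (EtCore.Hpull (pullback.snd j g) ((EtCoh.pull g).obj F) p)) ∧
      (∀ p : ℕ, p + 1 = n → Function.Injective (EtCore.Hpull (pullback.snd j g) ((EtCoh.pull g).obj F) p)) := by
  have key : ∀ (X' : Scheme.{u}) (g : X' ⟶ X) [AlgebraicGeometry.Etale g] (p : ℕ),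
      Nonempty ((EtShriek.restrAlong g).obj ((EtDual.locCoh j p).obj F) ≅
        (EtDual.locCoh (pullback.snd j g) p).obj ((EtCoh.pull g).obj F)) := fun X' g _ p => by
    have sq : IsPullback (pullback.fst j g) (pullback.snd j g) j g := IsPullback.of_hasPullback _ _
    haveI : AlgebraicGeometry.Etale (pullback.fst j g) := inferInstance
    obtain ⟨e⟩ := EtLocCoh19.nonempty_locCoh_restr g sq p F
    exact ⟨e ≪≫ (EtDual.locCoh (pullback.snd j g) p).mapIso ((restrPullIso g).app F)⟩
  constructor
  · intro h X' g _ _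
    refine (subsingleton_ext_zQuot_iff _ _ n).1 fun p hp => ?_
    have hz : IsZero ((EtDual.HY (pullback.snd j g) p).obj ((EtCoh.pull g).obj F)) := by
      refine EtLocCoh19.isZero_HY _ _ _ fun q hq => ?_
      obtain ⟨e⟩ := key X' g q
      exact ((EtShriek.restrAlong g).map_isZero (h q (by omega))).of_iso e.symm
    exact AddCommGrpCat.subsingleton_of_isZero (hz.of_iso (zQuotExtIso _ _ p))
  · intro h p hp
    induction p using Nat.strong_induction_on with
    | _ p ih =>
    rw [IsZero.iff_id_eq_zero]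
    apply Sheaf.hom_ext
    apply NatTrans.ext
    funext W
    obtain ⟨W⟩ := W
    refine IsZero.eq_of_src ?_ _ _
    haveI : AlgebraicGeometry.Etale W.hom := W.prop
    haveI : PreservesFiniteLimits (EtCoh.pull (pullback.snd j W.hom)) := preservesFiniteLimits_pull _
    obtain ⟨eH⟩ := EtLocCoh19.nonempty_HY_iso_sections (pullback.snd j W.hom) ((EtCoh.pull W.hom).obj F) p
      fun q hq => by
        obtain ⟨e⟩ := key W.left W.hom q
        exact ((EtShriek.restrAlong W.hom).map_isZero (ih q hq (by omega))).of_iso e.symm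
    haveI := (subsingleton_ext_zQuot_iff (pullback.snd j W.hom) ((EtCoh.pull W.hom).obj F) n).2 (h _ W.hom) p hp
    have hz := ((AddCommGrpCat.isZero_of_subsingleton
      (AddCommGrpCat.of (Ext (zQuot (pullback.snd j W.hom)) ((EtCoh.pull W.hom).obj F) p))).of_iso
        (zQuotExtIso _ _ p).symm).of_iso eH.symm
    obtain ⟨e⟩ := key W.left W.hom p
    have hz' := hz.of_iso ((EtLocCoh19.evS (EtCoh.top W.left)).mapIso e)
    let c : (EtShriek.compEtale W.hom).obj (EtCoh.top W.left) ≅ W :=
      MorphismProperty.Over.isoMk (Iso.refl _)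
    exact hz'.of_iso (((EtDual.locCoh j p).obj F).obj.mapIso c.op)

end Groth.Agent.BCInj6
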