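import Groth.Agent.Lib.RDEdge19.Edge

/-! The comparison of homology for a complex of acyclic objects without lower homology. -/

universe v₁ v₂ v₃ u₁ u₂ u₃

open CategoryTheory CategoryTheory.Limits

namespace Groth.Agent.BCInj6

open Groth.Agent.RDEdge19

set_option backward.isDefEq.respectTransparency false
set_option backward.isDefEq.respectTransparency.types false
set_option linter.style.haveILetI false
set_option linter.unusedSectionVars false

section

variable {B : Type u₂} [Category.{v₂} B] [Abelian B] [HasInjectiveResolutions B]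
  {C : Type u₃} [Category.{v₃} C] [Abelian C] (Ψ : B ⥤ C) [Ψ.Additive] [PreservesFiniteLimits Ψ] [EnoughInjectives B]
  (K : CochainComplex B ℕ)

theorem isIso_homologyComparison (hK : ∀ n, Acy Ψ (K.X n)) (p : ℕ)
    (h : ∀ q, q < p → IsZero (K.homology q)) :
    IsIso (RDer.homologyComparison Ψ K p) := by
  obtain ⟨I, e, i, hi, hei, hepi, hepi', hI⟩ := good Ψ K hK p h
  haveI := hi
  haveI := hepi
  haveI := hepi'
  have hi0 : i ≫ K.homologyπ p = 0 := by
    rw [← cancel_epi e, reassoc_of% hei, K.toCycles_comp_homologyπ, comp_zero]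
  have hS : (ShortComplex.mk i (K.homologyπ p) hi0).ShortExact :=
    { exact := by
        have hex := ShortComplex.exact_of_g_is_cokernel
          (ShortComplex.mk _ _ (K.toCycles_comp_homologyπ ((ComplexShape.up ℕ).prev p) p))
          (K.homologyIsCokernel _ p rfl)
        exact (ShortComplex.exact_iff_of_epi_of_isIso_of_mono
          (S₁ := ShortComplex.mk _ _ (K.toCycles_comp_homologyπ ((ComplexShape.up ℕ).prev p) p))
          (S₂ := ShortComplex.mk i (K.homologyπ p) hi0)
          { τ₁ := e, τ₂ := 𝟙 _, τ₃ := 𝟙 _, comm₁₂ := by simp [hei], comm₂₃ := by simp }).1 hex }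
  obtain ⟨hΨ, -⟩ := shortExact_map_of_acy Ψ hS hI
  let L := (K.sc p).leftHomologyData
  have hcol : IsColimit (CokernelCofork.ofπ (Ψ.map (K.homologyπ p))
      (show Ψ.map (K.toCycles ((ComplexShape.up ℕ).prev p) p) ≫ Ψ.map (K.homologyπ p) = 0 by
        rw [← Ψ.map_comp, K.toCycles_comp_homologyπ, Ψ.map_zero])) := by
    haveI : Epi (ShortComplex.mk i (K.homologyπ p) hi0 |>.map Ψ).g := hΨ.epi_g
    exact isCokernelEpiComp hΨ.exact.gIsCokernel (Ψ.map e) (by rw [← hei, Ψ.map_comp]; rfl)
  have key : ∀ (w : Ψ.map (K.d ((ComplexShape.up ℕ).prev p) p) ≫ Ψ.map (K.d p ((ComplexShape.up ℕ).next p)) = 0),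
      (KernelFork.mapIsLimit _ (K.cyclesIsKernel p ((ComplexShape.up ℕ).next p) rfl) Ψ).lift
        (KernelFork.ofι (Ψ.map (K.d ((ComplexShape.up ℕ).prev p) p)) w) = Ψ.map (K.toCycles _ p) := fun w => by
    refine Fork.IsLimit.hom_ext (KernelFork.mapIsLimit _ (K.cyclesIsKernel p _ rfl) Ψ) ?_
    rw [Fork.IsLimit.lift_ι]
    show Ψ.map (K.d _ p) = Ψ.map (K.toCycles _ p) ≫ Ψ.map (K.iCycles p)
    rw [← Ψ.map_comp, K.toCycles_i]
  let D : (((Ψ.mapHomologicalComplex _).obj K).sc p).LeftHomologyData :=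
    { K := Ψ.obj (K.cycles p)
      H := Ψ.obj (K.homology p)
      i := Ψ.map (K.iCycles p)
      π := Ψ.map (K.homologyπ p)
      wi := by
        show Ψ.map (K.iCycles p) ≫ Ψ.map (K.d p ((ComplexShape.up ℕ).next p)) = 0
        rw [← Ψ.map_comp, K.iCycles_d, Ψ.map_zero]
      hi := KernelFork.mapIsLimit _ (K.cyclesIsKernel p ((ComplexShape.up ℕ).next p) rfl) Ψ
      wπ := (congrArg (· ≫ Ψ.map (K.homologyπ p)) (key _)).trans
        ((Ψ.map_comp _ _).symm.trans ((congrArg Ψ.map (K.toCycles_comp_homologyπ _ p)).trans (Ψ.map_zero _ _)))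
      hπ := by
        haveI : Epi (Ψ.map (K.homologyπ p)) := hΨ.epi_g
        exact CokernelCofork.IsColimit.ofπ' _ _ fun k hk =>
          CokernelCofork.IsColimit.desc' hcol k (by rw [← key]; exact hk) }
  suffices e : RDer.homologyComparison Ψ K p = D.homologyIso.hom by
    rw [e]
    exact Iso.isIso_hom _
  rw [← cancel_epi (((Ψ.mapHomologicalComplex _).obj K).homologyπ p), RDer.homologyπ_homologyComparison]
  refine Eq.trans ?_ D.homologyπ_comp_homologyIso_hom.symm
  refine congrArg (· ≫ Ψ.map (K.homologyπ p)) ?_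
  haveI : Mono (Ψ.map (K.iCycles p)) := inferInstance
  rw [← cancel_mono (Ψ.map (K.iCycles p)), RDer.cyclesComparison_i]
  exact D.cyclesIso_hom_comp_i.symm

end

variable {A : Type u₁} [Category.{v₁} A] [Abelian A] [HasInjectiveResolutions A]
  {B : Type u₂} [Category.{v₂} B] [Abelian B] [HasInjectiveResolutions B] [EnoughInjectives B]
  {C : Type u₃} [Category.{v₃} C] [Abelian C]

/-- The second edge map is invertible in the first nonvanishing degree. -/
theorem isIso_edgeOut (Φ : A ⥤ B) [Φ.Additive] (Ψ : B ⥤ C) [Ψ.Additive] [PreservesFiniteLimits Ψ]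
    (hΦ : ∀ I : A, Injective I → Acy Ψ (Φ.obj I)) (X : A) (m : ℕ)
    (h : ∀ q, q < m → IsZero ((Φ.rightDerived q).obj X)) : IsIso (RDer.edgeOut Φ Ψ m X) := by
  haveI := isIso_homologyComparison Ψ ((Φ.mapHomologicalComplex _).obj (injectiveResolution X).cocomplex)
    (fun n => hΦ _ ((injectiveResolution X).injective n)) m
    fun q hq => (h q hq).of_iso ((injectiveResolution X).isoRightDerivedObj Φ q).symm
  rw [RDer.edgeOut]
  infer_instance

end Groth.Agent.BCInj6
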