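import Groth.Agent.Lib.EtColim.Torsion
import Groth.Agent.Lib.EtAcyc24.BCTransfer
import Groth.Agent.Lib.EtBCQ24.Mono

/-!
# The sheaf killed by an integer in an injective sheaf
-/

set_option autoImplicit false
set_option linter.style.haveILetI false
set_option linter.unusedSectionVars false
set_option backward.isDefEq.respectTransparency false
set_option backward.isDefEq.respectTransparency.types false

universe u

open CategoryTheory CategoryTheory.Limits AlgebraicGeometry Opposite CategoryTheory.Abelian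

namespace Groth.Agent.BCInj6

open Groth.Agent.EtStalk

variable {X : Scheme.{u}}

/-- The part killed by `a`. -/
noncomputable abbrev tor (a : ℕ) (J : EtCoh.Ab X) : EtCoh.Ab X := kernel (a • 𝟙 J)

lemma tor_ι_nsmul (a : ℕ) (J : EtCoh.Ab X) : a • kernel.ι (a • 𝟙 J) = 0 := by
  have h := kernel.condition (a • 𝟙 J)
  rwa [Preadditive.comp_nsmul, Category.comp_id] at h

lemma nsmul_id_tor (a : ℕ) (J : EtCoh.Ab X) : a • 𝟙 (tor a J) = 0 := by
  rw [← cancel_mono (kernel.ι (a • 𝟙 J)), zero_comp, Preadditive.nsmul_comp, Category.id_comp]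
  exact tor_ι_nsmul a J

lemma mono_nsmul_zExt {U : Scheme.{u}} (j : U ⟶ X) [Etale j] {a : ℕ} (ha : 0 < a) :
    Mono (a • 𝟙 (zExt j)) := by
  let A : AddCommGrpCat.{u + 1} := AddCommGrpCat.of (ULift.{u + 1} ℤ)
  let C := constantSheaf U.smallEtaleTopology AddCommGrpCat.{u + 1}
  haveI : PreservesFiniteLimits C := comp_preservesFiniteLimits _ _
  haveI : C.Additive := Functor.additive_of_preserves_binary_products C
  haveI hA : Mono (a • 𝟙 A) := by
    rw [AddCommGrpCat.mono_iff_injective]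
    intro x y h
    have h' : a • x = a • y := h
    refine ULift.ext _ _ ?_
    have h'' := congrArg ULift.down h'
    simp only [ULift.smul_down, nsmul_eq_mul] at h''
    exact mul_left_cancel₀ (Nat.cast_ne_zero.2 ha.ne') h''
  haveI : Mono (C.map (a • 𝟙 A)) := inferInstance
  haveI : Mono ((EtShriek.extZero j).map (C.map (a • 𝟙 A))) := inferInstance
  have e : (EtShriek.extZero j).map (C.map (a • 𝟙 A)) = a • 𝟙 (zExt j) := by
    rw [Functor.map_nsmul, CategoryTheory.Functor.map_id, Functor.map_nsmul, CategoryTheory.Functor.map_id]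
  exact e ▸ inferInstance

variable (J : EtCoh.Ab X) [Injective J] {a : ℕ}

lemma exists_div {U : Scheme.{u}} (j : U ⟶ X) [Etale j] (ha : 0 < a) (x : zExt j ⟶ J) :
    ∃ y : zExt j ⟶ J, y ≫ (a • 𝟙 J) = x := by
  haveI := mono_nsmul_zExt j ha
  refine ⟨Injective.factorThru x (a • 𝟙 (zExt j)), ?_⟩
  rw [Preadditive.comp_nsmul, Category.comp_id]
  have h := Injective.comp_factorThru x (a • 𝟙 (zExt j))
  rwa [Preadditive.nsmul_comp, Category.id_comp] at h

theorem epi_nsmul (ha : 0 < a) : Epi (a • 𝟙 J) := by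
  haveI : ∀ V, Epi ((a • 𝟙 J : J ⟶ J).hom.app V) := fun ⟨W⟩ => by
    rw [AddCommGrpCat.epi_iff_surjective]
    intro s
    haveI : AlgebraicGeometry.Etale W.hom := W.prop
    let e := EtColim.zExtSectIso W
    obtain ⟨y, hy⟩ := exists_div J W.hom ha ((e.app J).inv s)
    refine ⟨(e.app J).hom y, ?_⟩
    have hn := ConcreteCategory.congr_hom (e.hom.naturality (a • 𝟙 J)) y
    exact hn.symm.trans ((congrArg (e.app J).hom hy).trans (Iso.inv_hom_id_apply (e.app J) s))
  haveI h : Epi ((a • 𝟙 J : J ⟶ J).hom) := NatTrans.epi_of_epi_app _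
  exact (sheafToPresheaf _ _).epi_of_epi_map h

theorem shortExact_tor (ha : 0 < a) :
    (ShortComplex.mk (kernel.ι (a • 𝟙 J)) (a • 𝟙 J) (kernel.condition _)).ShortExact :=
  haveI := epi_nsmul J ha
  { exact := ShortComplex.exact_of_f_is_kernel _ (kernelIsKernel (a • 𝟙 J)) }

/-- The part killed by `a` of an injective sheaf is flasque. -/
theorem acyc_tor (ha : 0 < a) : EtFlasque24.Acyc (tor a J) := by
  intro W q hq
  obtain ⟨m, rfl⟩ := Nat.exists_eq_add_one.2 hq
  haveI : AlgebraicGeometry.Etale W.hom := W.prop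
  refine @Equiv.subsingleton _ _ (extCohEquiv W.hom (tor a J) (m + 1)).symm.toEquiv ?_
  refine subsingleton_of_forall_eq 0 fun x => ?_
  have hS := shortExact_tor J ha
  obtain ⟨z, rfl⟩ := Ext.covariant_sequence_exact₁ (zExt W.hom) hS x (Ext.eq_zero_of_injective _) rfl
  rcases m with _ | m
  · obtain ⟨φ, rfl⟩ : ∃ φ, Ext.mk₀ φ = z := (Ext.mk₀_bijective _ _).2 z
    obtain ⟨ψ, rfl⟩ := exists_div J W.hom ha φ
    rw [← Ext.mk₀_comp_mk₀]
    rw [Ext.comp_assoc (Ext.mk₀ ψ) (Ext.mk₀ (a • 𝟙 J)) hS.extClass (zero_add 0) (zero_add 1) (by lia),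
      hS.comp_extClass, Ext.comp_zero]
  · rw [Ext.eq_zero_of_injective z, Ext.zero_comp]

theorem isZero_Rpush_tor {Y : Scheme.{u}} (f : X ⟶ Y) (ha : 0 < a) (q : ℕ) (hq : 0 < q) :
    IsZero ((EtCoh.Rpush f q).obj (tor a J)) :=
  EtAcyc24.isZero_Rpush_of_acyc f (acyc_tor J ha) q hq

theorem exists_tor_embed {F : EtCoh.Ab X} (hF : a • 𝟙 F = 0) :
    ∃ (J : EtCoh.Ab X) (_ : Injective J) (u : F ⟶ tor a J), Mono u := by
  refine ⟨Injective.under F, inferInstance, kernel.lift _ (Injective.ι F) ?_,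
    mono_of_mono_fac (kernel.lift_ι _ (Injective.ι F) _)⟩
  rw [Preadditive.comp_nsmul, Category.comp_id]
  have h := congrArg (· ≫ Injective.ι F) hF
  simpa [Preadditive.nsmul_comp] using h

theorem shortExact_tor_mul {ℓ b : ℕ} (hℓ : 0 < ℓ) :
    ∃ (f : tor ℓ J ⟶ tor (ℓ * b) J) (g : tor (ℓ * b) J ⟶ tor b J) (w : f ≫ g = 0),
      (ShortComplex.mk f g w).ShortExact := by
  let ι := fun c : ℕ => kernel.ι (c • 𝟙 J)
  have hs : ∀ (c : ℕ) {T : EtCoh.Ab X} (x : T ⟶ J), c • x = 0 → x ≫ (c • 𝟙 J) = 0 := fun c T x h => by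
    rw [Preadditive.comp_nsmul, Category.comp_id, h]
  let f : tor ℓ J ⟶ tor (ℓ * b) J := kernel.lift _ (ι ℓ) (hs _ _ (by
    rw [mul_nsmul, tor_ι_nsmul, smul_zero]))
  let g : tor (ℓ * b) J ⟶ tor b J := kernel.lift _ (ι (ℓ * b) ≫ (ℓ • 𝟙 J)) (hs _ _ (by
    rw [Preadditive.comp_nsmul, Category.comp_id, ← mul_nsmul, tor_ι_nsmul]))
  have hf : f ≫ ι (ℓ * b) = ι ℓ := kernel.lift_ι _ _ _
  have hg : g ≫ ι b = ι (ℓ * b) ≫ (ℓ • 𝟙 J) := kernel.lift_ι _ _ _
  have w : f ≫ g = 0 := by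
    rw [← cancel_mono (ι b), Category.assoc, hg, ← Category.assoc, hf, zero_comp]
    exact kernel.condition _
  haveI : Mono f := mono_of_mono_fac hf
  haveI : Epi g := by
    haveI := epi_nsmul J hℓ
    let r : pullback (ℓ • 𝟙 J) (ι b) ⟶ tor (ℓ * b) J := kernel.lift _ (pullback.fst _ _) (hs _ _ (by
      have h := congrArg (fun z => b • z) (pullback.condition (f := ℓ • 𝟙 J) (g := ι b))
      simp only [Preadditive.comp_nsmul, Category.comp_id] at h
      rw [mul_nsmul, h, ← Preadditive.comp_nsmul, tor_ι_nsmul, comp_zero]))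
    have hr : r ≫ g = pullback.snd _ _ := by
      rw [← cancel_mono (ι b), Category.assoc, hg]
      exact (Category.assoc _ _ _).symm.trans ((congrArg (· ≫ (ℓ • 𝟙 J)) (kernel.lift_ι _ _ _)).trans
        pullback.condition)
    haveI : Epi (r ≫ g) := hr ▸ inferInstance
    exact epi_of_epi r g
  refine ⟨f, g, w, { exact := ShortComplex.exact_of_f_is_kernel _ ?_ }⟩
  refine KernelFork.IsLimit.ofι' f w fun {T} k hk => ⟨kernel.lift _ (k ≫ ι (ℓ * b)) ?_, ?_⟩
  · rw [Category.assoc, ← hg, ← Category.assoc, hk, zero_comp]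
  · rw [← cancel_mono (ι (ℓ * b)), Category.assoc, hf]
    exact kernel.lift_ι _ _ _

/-- A retract of sheaves gives a retract of their parts killed by `a`. -/
theorem exists_tor_retract {K J : EtCoh.Ab X} (s : K ⟶ J) (r : J ⟶ K) (h : s ≫ r = 𝟙 K) (a : ℕ) :
    ∃ (s' : tor a K ⟶ tor a J) (r' : tor a J ⟶ tor a K), s' ≫ r' = 𝟙 _ := by
  refine ⟨kernel.map _ _ s s (by simp), kernel.map _ _ r r (by simp), ?_⟩
  rw [← cancel_mono (kernel.ι (a • 𝟙 K))]
  simp [h]

/-- Direct image commutes with taking the part killed by `a`. -/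
noncomputable def pushTorIso {Y : Scheme.{u}} (f : X ⟶ Y) (a : ℕ) (J : EtCoh.Ab X) :
    (EtCoh.push f).obj (tor a J) ≅ tor a ((EtCoh.push f).obj J) :=
  haveI : PreservesLimitsOfSize.{0, 0} (EtCoh.push f) := (EtCoh.pullPushAdj f).rightAdjoint_preservesLimits
  PreservesKernel.iso (EtCoh.push f) (a • 𝟙 J) ≪≫
    kernel.mapIso _ _ (Iso.refl _) (Iso.refl _) (by simp [Functor.map_nsmul])

end Groth.Agent.BCInj6
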