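import Groth.Agent.Lib.BCInj6.Tor
import Groth.Agent.Lib.BcMapQ6.Torsion
import Groth.Agent.Lib.EtBCQ24.FirstDegree
import Groth.Agent.Lib.EtAcyc24.LqfCriterion
import Groth.Agent.Lib.ProperPush24.Main
import Groth.Prelude.Def_PBC

/-!
# Commutation with base change and injective sheaves killed by primes
-/

set_option autoImplicit false
set_option linter.style.haveILetI false
set_option linter.unusedSectionVars false
set_option backward.isDefEq.respectTransparency false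
set_option backward.isDefEq.respectTransparency.types false

universe u

open CategoryTheory CategoryTheory.Limits AlgebraicGeometry Opposite

attribute [local instance] HasDerivedCategory.standard

namespace Groth.Agent.BCInj6

open Groth.Agent.EtStalk

variable {X Y : Scheme.{u}}

/-- After any base change, the inverse images of injective sheaves killed by a prime have no higher direct images. -/
def Van (f : X ⟶ Y) : Prop :=
  ∀ ⦃X' Y' : Scheme.{u}⦄ (f' : X' ⟶ Y') (g' : X' ⟶ X) (g : Y' ⟶ Y), IsPullback g' f' f g →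
    ∀ (J : EtCoh.Ab X), Injective J → ∀ ℓ : ℕ, ℓ.Prime → ∀ q : ℕ, 0 < q →
      IsZero ((EtCoh.Rpush f' q).obj ((EtCoh.pull g').obj (tor ℓ J)))

variable (f : X ⟶ Y)

theorem Van.all {f : X ⟶ Y} (hV : Van f) {X' Y' : Scheme.{u}} (f' : X' ⟶ Y') (g' : X' ⟶ X) (g : Y' ⟶ Y)
    (h : IsPullback g' f' f g) (J : EtCoh.Ab X) [Injective J] (a : ℕ) (ha : 0 < a) (q : ℕ) (hq : 0 < q) :
    IsZero ((EtCoh.Rpush f' q).obj ((EtCoh.pull g').obj (tor a J))) := by
  induction a using Nat.strong_induction_on with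
  | _ a ih =>
    rcases eq_or_ne a 1 with rfl | ha1
    · refine Functor.map_isZero _ (Functor.map_isZero _ ?_)
      rw [IsZero.iff_id_eq_zero, ← one_nsmul (𝟙 (tor 1 J))]
      exact nsmul_id_tor 1 J
    · obtain ⟨ℓ, hℓ, b, rfl⟩ := Nat.exists_prime_and_dvd ha1
      obtain ⟨φ, ψ, w, hS⟩ := shortExact_tor_mul J (b := b) hℓ.pos
      have hb : 0 < b := Nat.pos_of_mul_pos_left ha
      haveI := hS.mono_f
      exact RFPlus.isZero_rightDerived_X₂ (EtCoh.push f') _ (hS.map_of_exact (EtCoh.pull g')) q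
        (hV f' g' g h J inferInstance ℓ hℓ q hq) (ih b (lt_mul_left hb hℓ.one_lt) hb)

theorem van_of_cohCommutes [EtCoh.BCCont f] (hf : EtPBC.CohCommutesWithBC f) : Van f := by
  intro X' Y' f' g' g h J hJ ℓ hℓ q hq
  have hT : EtCoh.IsTorsion (tor ℓ J) := fun U s z => ⟨U, 𝟙 U, ⟨z, rfl⟩, isOfFinAddOrder_iff_nsmul_eq_zero.2
    ⟨ℓ, hℓ.pos, EtBCQ24.killedBy_of_nsmul (nsmul_id_tor ℓ J) U _⟩⟩
  obtain ⟨e⟩ := hf f' g' g h (tor ℓ J) hT q
  exact (Functor.map_isZero _ (isZero_Rpush_tor J f hℓ.pos q hq)).of_iso e.symm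

variable {f}

/-- Base change for sheaves killed by an integer. -/
theorem Van.isIso_bcQ_killed (hV : Van f) [IsProper f] {X' Y' : Scheme.{u}} (f' : X' ⟶ Y') (g' : X' ⟶ X)
    (g : Y' ⟶ Y) (h : IsPullback g' f' f g) {a : ℕ} (ha : 0 < a) :
    ∀ (q : ℕ) (F : EtCoh.Ab X), EtCoh.KilledBy a F → IsIso (EtBC.bcQ f g f' g' h.w q F) := by
  intro q
  induction q with
  | zero =>
    intro F _
    haveI := ProperPush24.isIso_baseChange0_proper f F g f' g' h
    haveI : IsIso ((EtCoh.pull g).map ((EtCoh.push f).toRightDerivedZero.app F) ≫ EtBC.bcQ f g f' g' h.w 0 F) := by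
      rw [EtBC.bcQ_zero_compat f g f' g' h.w F]
      infer_instance
    exact IsIso.of_isIso_comp_left ((EtCoh.pull g).map ((EtCoh.push f).toRightDerivedZero.app F)) _
  | succ m ih =>
    intro F hF
    obtain ⟨J, hJ, u, hu⟩ := exists_tor_embed (EtBCQ24.nsmul_id_of_killedBy hF)
    obtain ⟨φ, hφ, -⟩ := EtBCQ24.exists_mono_coker g f f' g' h.w a m ih F (tor a J) u
      (EtBCQ24.killedBy_of_nsmul (nsmul_id_tor a J))
    haveI : Epi (EtBC.bcQ f g f' g' h.w (m + 1) (tor a J)) := (hV.all f' g' g h J a ha (m + 1) m.succ_pos).epi _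
    haveI : Epi (EtBC.bcQ f g f' g' h.w (m + 1) F) := Abelian.epi_of_cokernel_π_eq_zero _
      (IsZero.eq_of_tgt (IsZero.of_mono φ (isZero_cokernel_of_epi _)) _ _)
    haveI := EtBCQ24.mono_bcQ_succ g f f' g' h.w a m ih F hF
    exact isIso_of_mono_of_epi _

/-- The vanishing gives the base change isomorphisms. -/
theorem Van.isIso_bcQ (hV : Van f) [IsProper f] {X' Y' : Scheme.{u}} (f' : X' ⟶ Y') (g' : X' ⟶ X)
    (g : Y' ⟶ Y) (h : IsPullback g' f' f g) (F : EtCoh.Ab X) (hF : EtCoh.IsTorsion F) (q : ℕ) :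
    IsIso (EtBC.bcQ f g f' g' h.w q F) := by
  haveI : IsProper f' := MorphismProperty.of_isPullback h ‹IsProper f›
  have hL : EtAcyc.IsLTorsion Set.univ F := fun U s z =>
    let ⟨V, r, hv, ho⟩ := hF U s z
    let ⟨m, hm, h0⟩ := isOfFinAddOrder_iff_nsmul_eq_zero.1 ho
    ⟨V, r, m, hv, ⟨hm, fun _ _ _ => trivial⟩, h0⟩
  exact BcMapQ6.bcQ_colim f g f' g' h.w (MorphismProperty.isomorphisms _) Set.univ q F hL
    fun a G ha hG => hV.isIso_bcQ_killed f' g' g h ha.1 q G hG

theorem Van.cohCommutes (hV : Van f) [IsProper f] [EtCoh.BCCont f] : EtPBC.CohCommutesWithBC f := by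
  intro X' Y' f' g' g _ _ _ h F hF q
  haveI := hV.isIso_bcQ f' g' g h F hF q
  exact ⟨asIso (EtBC.bcQ f g f' g' h.w q F)⟩

theorem IsZero.of_retract {C : Type*} [Category C] [HasZeroMorphisms C] {A B : C} (s : A ⟶ B) (r : B ⟶ A)
    (h : s ≫ r = 𝟙 A) (hB : IsZero B) : IsZero A := by
  rw [IsZero.iff_id_eq_zero, ← h, hB.eq_zero_of_tgt s, zero_comp]

end Groth.Agent.BCInj6
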